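import Cfsg.Agent.Lib.HalfT.B

/-! Half-transitive linear `p`-groups: maximal class, and the reduction. -/

set_option autoImplicit false
set_option linter.unusedSectionVars false

namespace CfsgLib.HalfT

open Subgroup Module
open scoped commutatorElement

variable {q : ℕ} [hq : Fact q.Prime] {V : Type*} [AddCommGroup V] [Module (ZMod q) V] [Finite V]
  {G : Type*} [Group G] [Finite G] {ρ : G →* (V ≃ₗ[ZMod q] V)}

theorem exists_prime_fix {p : ℕ} [hp : Fact p.Prime] (hG : IsPGroup p G) {H : Subgroup G} {g : G}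
    (hg : g ∈ H) (g1 : g ≠ 1) : ∃ t ∈ H, t ≠ 1 ∧ t ^ p = 1 := by
  obtain ⟨n, hn⟩ := IsPGroup.iff_orderOf.1 hG g
  obtain ⟨k, rfl⟩ : ∃ k, n = k + 1 := Nat.exists_eq_succ_of_ne_zero (by
    rintro rfl; exact g1 (orderOf_eq_one_iff.mp hn))
  refine ⟨g ^ p ^ k, pow_mem hg _, pow_ne_one_of_lt_orderOf (pow_ne_zero _ hp.out.ne_zero) ?_, ?_⟩
  · rw [hn]; exact Nat.pow_lt_pow_right hp.out.one_lt k.lt_succ_self
  · rw [← pow_mul, ← pow_succ, ← hn, pow_orderOf_eq_one]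

theorem maxc [Nontrivial V] (h : Half ρ) (hρ : Function.Injective ρ) (h2 : (2 : ZMod q) ≠ 0)
    (hG : IsPGroup 2 G) {a b : G} {m : ℕ} (hi : (zpowers a).index = 2) (ha : orderOf a = 2 ^ (m + 2))
    (hb : b ∉ zpowers a) (hw : b * a ^ 2 ^ m * b⁻¹ = (a ^ 2 ^ m)⁻¹)
    (hinv : ∀ v : V, v ≠ 0 → ∃ t, t ≠ 1 ∧ t ^ 2 = 1 ∧ ρ t v = v) :
    (∃ t, t ∉ zpowers a ∧ t ^ 2 = 1) ∧ ∀ n, {t | t ∉ zpowers a ∧ t ^ 2 = 1}.ncard = 2 ^ n →
      Nat.card V = q ^ 2 ∧ q = 2 ^ n - 1 := by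
  set w := a ^ 2 ^ m with hwd
  have ow : orderOf w = 4 := by
    rw [hwd, orderOf_pow' _ (by positivity), ha, Nat.gcd_eq_right (pow_dvd_pow 2 (by omega)), pow_add,
      Nat.mul_div_cancel_left _ (by positivity)]
    rfl
  have w4 : (w ^ 2) ^ 2 = 1 := by rw [← pow_mul, ← orderOf_dvd_iff_pow_eq_one, ow]
  have w2 : w ^ 2 ≠ 1 := pow_ne_one_of_lt_orderOf two_ne_zero (by omega)
  have wa : ∀ i : ℤ, a ^ i * w = w * a ^ i := fun i => ((Commute.refl a).zpow_left i).pow_right _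
  have hzc : w ^ 2 ∈ center G := by
    rw [mem_center_iff]
    intro g
    have e1 : b * w ^ 2 = w ^ 2 * b := by
      rw [← mul_inv_eq_iff_eq_mul, ← conj_pow, hw, inv_pow, inv_eq_iff_mul_eq_one, ← sq, w4]
    obtain ⟨i, rfl | rfl⟩ := Frob.exists_eq_zpow_or_of_index_two hi hb g
    · exact (Commute.pow_right (wa i) 2)
    · rw [mul_assoc, e1, ← mul_assoc, ← mul_assoc, (Commute.pow_right (wa i) 2).eq]
  have hz := neg_of_central h hρ h2 hzc w2 w4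
  have hA : ∀ g ∈ zpowers a, ∀ v, v ≠ 0 → ρ g v = v → g = 1 := by
    intro g hg v hv e
    by_contra g1
    obtain ⟨t, ⟨ht, ht'⟩, t1, t2⟩ := exists_prime_fix hG (H := zpowers a ⊓ St ρ v) ⟨hg, e⟩ g1
    have e2 : t = w ^ 2 := by
      obtain ⟨i, rfl⟩ := ht
      simp only at t1 t2 ⊢
      rw [← zpow_natCast, ← zpow_mul, ← orderOf_dvd_iff_zpow_eq_one, ha] at t2
      push_cast at t2
      rw [pow_succ, mul_dvd_mul_iff_right two_ne_zero] at t2
      obtain ⟨j, rfl⟩ := t2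
      have e3 : a ^ ((2 : ℤ) ^ (m + 1)) = w ^ 2 := by
        rw [hwd, ← pow_mul, ← pow_succ, ← zpow_natCast]; simp
      rw [zpow_mul, e3] at t1 ⊢
      obtain ⟨k, rfl | rfl⟩ := Int.even_or_odd' j
      · exact absurd (by rw [zpow_mul, zpow_two, ← sq, w4, one_zpow]) t1
      · rw [zpow_add, zpow_mul, zpow_two, ← sq, w4, one_zpow, one_mul, zpow_one]
    rw [e2] at ht'
    exact hv (eq_zero_of_eq_neg h2 (((mem_St ρ).mp ht').symm.trans (hz v)))
  have hex : ∀ v : V, v ≠ 0 → ∃! t, t ∈ {t | t ∉ zpowers a ∧ t ^ 2 = 1} ∧ ρ t v = v := by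
    intro v hv
    obtain ⟨t, t1, t2, t3⟩ := hinv v hv
    have ta : t ∉ zpowers a := fun e => t1 (hA t e v hv t3)
    refine ⟨t, ⟨⟨ta, t2⟩, t3⟩, fun s ⟨⟨s1, s2⟩, s3⟩ => ?_⟩
    have := hA (s * t) ((mul_mem_iff_of_index_two hi).mpr (iff_of_false s1 ta)) v hv (by rw [rmul, t3, s3])
    rw [eq_inv_of_mul_eq_one_left this, inv_eq_iff_mul_eq_one, ← sq, t2]
  refine ⟨?_, fun n hn => count h2 hz (w := w) _ (fun t ht => ⟨ht.2, ?_⟩) hex hn⟩
  · obtain ⟨v, hv⟩ := exists_ne (0 : V)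
    obtain ⟨t, ⟨ht, -⟩, -⟩ := hex v hv
    exact ⟨t, ht⟩
  · obtain ⟨i, rfl | rfl⟩ := Frob.exists_eq_zpow_or_of_index_two hi hb t
    · exact absurd (zpow_mem_zpowers a i) ht.1
    · have e : b * w⁻¹ = w * b := by
        rw [← mul_inv_eq_iff_eq_mul, ← conj_inv, hw, inv_inv]
      rw [mul_assoc, mul_assoc, e, ← mul_assoc (a ^ i), wa, sq]; group

theorem ncard_coset (H : Subgroup G) (b : G) : ((· * b) '' (H : Set G)).ncard = Nat.card H := by
  rw [Set.ncard_image_of_injective _ (mul_left_injective b), ← Nat.card_coe_set_eq]; rfl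

theorem cyc_case [Nontrivial V] {p : ℕ} [hp : Fact p.Prime] (h : Half ρ) (hρ : Function.Injective ρ)
    (hpq : (p : ZMod q) ≠ 0) (hG : IsPGroup p G)
    (hA : ∀ A : Subgroup G, A.Normal → IsMulCommutative A → IsCyclic A)
    (hinv : ∀ v : V, v ≠ 0 → ∃ t, t ≠ 1 ∧ t ^ p = 1 ∧ ρ t v = v) :
    Nat.card V = q ^ 2 ∧ ∃ m : ℕ, q = 2 ^ m - 1 ∧
      (Nonempty (G ≃* DihedralGroup (2 ^ m)) ∨ (Cfsg.IsQuasiDihedral G ∧ Nat.card G = 2 ^ (m + 2))) := by
  rcases Frob.exists_gens_of_forall_normal_isCyclic hG hA with hc | ⟨rfl, a, b, m, hi, ha, hb, hc⟩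
  · obtain ⟨v, hv⟩ := exists_ne (0 : V)
    obtain ⟨t, t1, t2, t3⟩ := hinv v hv
    refine absurd (h.central hρ hpq (mem_center_iff.mpr fun g => ?_) t1 t2 t3) hv
    let _ := hc.commGroup
    exact mul_comm g t
  have h2 : (2 : ZMod q) ≠ 0 := by exact_mod_cast hpq
  obtain ⟨n, rfl⟩ : ∃ n, m = n + 2 := ⟨m - 2, by omega⟩
  have hsq : ∀ (i : ℤ) (k : ℤ), b * a * b⁻¹ = a ^ k → (a ^ i * b) ^ 2 = a ^ (i + k * i) * b ^ 2 := by
    intro i k e
    rw [zpow_add, zpow_mul, ← e, conj_zpow, sq, sq]; group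
  rcases hc with ⟨h1, h3, h4⟩ | ⟨h1, h3, h4⟩ | ⟨h1, h3, h4⟩
  · obtain ⟨e1, e2⟩ := (maxc h hρ h2 hG hi ha hb (by rw [← conj_pow, h4, inv_pow]) hinv).2 (n + 2) (by
      rw [← ha, ← Nat.card_zpowers, ← ncard_coset _ b]
      congr 1
      ext t
      constructor
      · rintro ⟨t1, -⟩
        obtain ⟨i, rfl | rfl⟩ := Frob.exists_eq_zpow_or_of_index_two hi hb t
        · exact absurd (zpow_mem_zpowers a i) t1
        · exact ⟨_, zpow_mem_zpowers a i, rfl⟩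
      · rintro ⟨_, ⟨i, rfl⟩, rfl⟩
        refine ⟨fun e => hb ((mul_mem_cancel_left (zpow_mem_zpowers a i)).mp e), ?_⟩
        have := hsq i (-1) (by rw [h4, zpow_neg_one])
        simpa [h3] using this)
    exact ⟨e1, _, e2, Or.inl (Frob.nonempty_dihedral_of_gens hi ha hb h3 h4)⟩
  · obtain ⟨t, t1, t2⟩ := (maxc h hρ h2 hG hi ha hb (by rw [← conj_pow, h4, inv_pow]) hinv).1
    exfalso
    obtain ⟨i, rfl | rfl⟩ := Frob.exists_eq_zpow_or_of_index_two hi hb t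
    · exact t1 (zpow_mem_zpowers a i)
    · rw [hsq i (-1) (by rw [h4, zpow_neg_one]), h3, neg_one_mul, add_neg_cancel, zpow_zero, one_mul] at t2
      exact pow_ne_one_of_lt_orderOf (by positivity)
        (ha ▸ Nat.pow_lt_pow_right one_lt_two (by omega)) t2
  · have hk : b * a * b⁻¹ = a ^ ((2 : ℤ) ^ (n + 1) - 1) := by
      rw [h4, ← zpow_natCast, Nat.cast_sub Nat.one_le_two_pow]; simp
    have hsq' : ∀ i : ℤ, (a ^ i * b) ^ 2 = 1 ↔ 2 ∣ i := by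
      intro i
      rw [hsq i _ hk, h3, mul_one, ← orderOf_dvd_iff_zpow_eq_one, ha]
      have e : i + (2 ^ (n + 1) - 1) * i = 2 ^ (n + 1) * i := by ring
      rw [e]
      push_cast
      rw [pow_succ 2 (n + 1), mul_dvd_mul_iff_left (by positivity)]
    obtain ⟨e1, e2⟩ := (maxc h hρ h2 hG hi ha hb (by
      rw [← conj_pow, hk, ← zpow_natCast, ← zpow_natCast, ← zpow_mul, ← zpow_neg, zpow_eq_zpow_iff_modEq,
        ha, Int.modEq_iff_dvd]
      obtain ⟨k, rfl⟩ : ∃ k, n = k + 1 := ⟨n - 1, by omega⟩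
      exact ⟨-2 ^ k, by push_cast; ring⟩) hinv).2 (n + 1) (by
      have oa : orderOf (a ^ 2) = 2 ^ (n + 1) := by
        rw [orderOf_pow' _ two_ne_zero, ha, Nat.gcd_eq_right (dvd_pow_self 2 (by omega)), pow_succ,
          Nat.mul_div_cancel _ two_pos]
      rw [← oa, ← Nat.card_zpowers, ← ncard_coset _ b]
      congr 1
      ext t
      constructor
      · rintro ⟨t1, t2⟩
        obtain ⟨i, rfl | rfl⟩ := Frob.exists_eq_zpow_or_of_index_two hi hb t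
        · exact absurd (zpow_mem_zpowers a i) t1
        · obtain ⟨j, rfl⟩ := (hsq' i).mp t2
          exact ⟨_, ⟨j, by simp only; rw [zpow_mul, zpow_two, sq]⟩, rfl⟩
      · rintro ⟨_, ⟨i, rfl⟩, rfl⟩
        have e : (a ^ 2) ^ i = a ^ (2 * i) := by rw [zpow_mul, zpow_two, sq]
        simp only [e]
        exact ⟨fun e => hb ((mul_mem_cancel_left (zpow_mem_zpowers a _)).mp e),
          (hsq' _).mpr (dvd_mul_right _ _)⟩)
    refine ⟨e1, _, e2, Or.inr ⟨Frob.isQuasiDihedral_of_gens hi ha hb h1 h3 h4, ?_⟩⟩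
    rw [← (zpowers a).card_mul_index, hi, Nat.card_zpowers, ha, ← pow_succ]

theorem exists_normal_sq {p : ℕ} [hp : Fact p.Prime] (hG : IsPGroup p G) {A : Subgroup G} [A.Normal]
    (hA : IsMulCommutative A) (hc : ¬ IsCyclic A) :
    ∃ E : Subgroup G, E.Normal ∧ Nat.card E = p ^ 2 ∧ ∀ x ∈ E, x ^ p = 1 := by
  have := PGroup.powKer_normal A hA p
  by_cases h : p ^ 2 ≤ Nat.card (PGroup.powKer A hA p)
  · obtain ⟨E, e1, e2, e3⟩ := PGroup.exists_normal_le_card_eq hG _ 2 h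
    exact ⟨E, e1, e3, fun x hx => (e2 hx).2⟩
  refine absurd (Frob.isCyclic_subgroup_of_forall_mem_zpowers hA fun r hr x hx y hy ox oy => ?_) hc
  obtain ⟨n, hn⟩ := IsPGroup.iff_orderOf.1 hG x
  obtain rfl : r = p := (Nat.prime_dvd_prime_iff_eq hr hp.out).1 (hr.dvd_of_dvd_pow (by rw [← hn, ox]))
  have hx' : x ∈ PGroup.powKer A hA r := ⟨hx, ox ▸ pow_orderOf_eq_one x⟩
  have hy' : y ∈ PGroup.powKer A hA r := ⟨hy, oy ▸ pow_orderOf_eq_one y⟩
  obtain ⟨k, hk⟩ := IsPGroup.iff_card.1 (hG.to_subgroup (PGroup.powKer A hA r))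
  have hk2 : k ≤ 1 := by
    rw [hk, Nat.pow_le_pow_iff_right hr.one_lt] at h; omega
  rw [eq_of_le_of_card_ge (zpowers_le.mpr hx') (by
    rw [Nat.card_zpowers, ox, hk]; simpa using Nat.pow_le_pow_right hr.pos hk2)]
  exact hy'

theorem nc_case [Nontrivial V] {p : ℕ} [hp : Fact p.Prime] (h : Half ρ) (hρ : Function.Injective ρ)
    (hpq : (p : ZMod q) ≠ 0) (hG : IsPGroup p G) {E : Subgroup G} [E.Normal] (hE : Nat.card E = p ^ 2)
    (hEp : ∀ x ∈ E, x ^ p = 1) : p = 2 ∧ ∃ u z, Four ρ u z := by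
  obtain ⟨Z, z1, z2, z3, z4⟩ := PCount.exists_Z hG hE
  obtain ⟨u, hu, u1, x, hx, hux⟩ : ∃ u ∈ E, u ≠ 1 ∧ ∃ x : V, x ≠ 0 ∧ ρ u x = x := by
    by_contra hn
    push Not at hn
    refine pq_card (pq (ρ := ρ.comp E.subtype) fun v hv g hg => ?_) (p := p) ⊤
      (fun g _ => Subtype.ext (hEp g g.2)) (by rw [card_top, hE])
    by_contra g1
    exact hn g g.2 (fun e => g1 (Subtype.ext e)) v hv hg
  have hcen : ∀ y ∈ Z, y ≠ 1 → ∀ v, ρ y v = v → v = 0 := fun y hy y1 v hv =>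
    h.central hρ hpq (z2 hy) y1 (hEp y (z1 hy)) hv
  obtain ⟨g0, hg0⟩ : ∃ g, g * u * g⁻¹ ≠ u := by
    by_contra hn
    push Not at hn
    exact hx (h.central hρ hpq (mem_center_iff.mpr fun g => mul_inv_eq_iff_eq_mul.mp (hn g)) u1
      (hEp u hu) hux)
  have hcj : ∀ g, u⁻¹ * (g * u * g⁻¹) ∈ Z := fun g => by
    have := z4 _ (inv_mem hu) g
    rwa [commutatorElement_def, inv_inv, mul_assoc, mul_assoc, ← mul_assoc g] at this
  set z := u⁻¹ * (g0 * u * g0⁻¹) with hz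
  have z0 : z ≠ 1 := fun e => hg0 (inv_mul_eq_one.mp e).symm
  have oz : orderOf z = p := orderOf_eq_prime (hEp z (z1 (hcj g0))) z0
  have hcj' : ∀ g, ∃ c : ℕ, g * u * g⁻¹ = u * z ^ c := fun g => by
    obtain ⟨c, hc⟩ := PGroup.exists_pow_eq_of_card_prime z3 (hcj g0) z0 (hcj g)
    exact ⟨c, by rw [hc, mul_inv_cancel_left]⟩
  have hg0' : g0 * u * g0⁻¹ = u * z := by rw [hz, mul_inv_cancel_left]
  obtain rfl : p = 2 := by
    by_contra hp2
    exact odd_case h hp.out hp2 (z2 (hcj g0)) oz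
      (fun k hk v hv => hcen _ (pow_mem (hcj g0) k) hk v hv) hcj' hg0' hx hux
  have h2 : (2 : ZMod q) ≠ 0 := by exact_mod_cast hpq
  have zc : ∀ g, g * z = z * g := mem_center_iff.mp (z2 (hcj g0))
  have z2' : z ^ 2 = 1 := hEp z (z1 (hcj g0))
  refine ⟨rfl, u, z, h, hρ, h2, neg_of_central h hρ h2 (z2 (hcj g0)) z0 z2', zc, hEp u hu, fun g => ?_,
    g0, hg0'.trans (zc u)⟩
  obtain ⟨c, hc⟩ := hcj' g
  obtain ⟨k, rfl | rfl⟩ := Nat.even_or_odd' c
  · left; rw [hc, pow_mul, z2', one_pow, mul_one]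
  · right; rw [hc, pow_succ, pow_mul, z2', one_pow, one_mul, zc]

theorem inv_of_not [Nontrivial V] {p : ℕ} [hp : Fact p.Prime] (h : Half ρ) (hρ : Function.Injective ρ)
    (hG : IsPGroup p G) (hn : ¬ ∀ v : V, v ≠ 0 → ∀ g : G, ρ g v = v → g = 1) :
    (p : ZMod q) ≠ 0 ∧ ∀ v : V, v ≠ 0 → ∃ t, t ≠ 1 ∧ t ^ p = 1 ∧ ρ t v = v := by
  push Not at hn
  obtain ⟨w, hw, g, hg, g1⟩ := hn
  refine ⟨fun e => ?_, fun v hv => ?_⟩
  · obtain rfl : q = p := (Nat.prime_dvd_prime_iff_eq hq.out hp.out).mp ((ZMod.natCast_eq_zero_iff _ _).mp e)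
    let _ := MulAction.compHom V ρ
    have hd : q ∣ Nat.card V := by
      rw [Module.natCard_eq_pow_finrank (K := ZMod q), Nat.card_zmod]
      exact dvd_pow_self q Module.finrank_pos.ne'
    obtain ⟨x, hx, hx0⟩ := hG.exists_fixed_point_of_prime_dvd_card_of_fixed_point V hd
      (a := 0) (fun g => map_zero (ρ g))
    have hx1 : St ρ x = ⊤ := eq_top_iff.mpr fun g _ => hx g
    refine g1 (hρ ?_)
    rw [map_one]
    refine LinearEquiv.ext fun v => ?_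
    by_cases hv : v = 0
    · rw [hv, map_zero, map_zero]
    · have := h v x hv hx0.symm
      rw [hx1, card_top, card_eq_iff_eq_top] at this
      exact (mem_St ρ).mp (this ▸ mem_top g)
  · have h1 : St ρ v ≠ ⊥ := fun e => g1 (by
      have := h w v hw hv
      rw [e, card_bot, card_eq_one] at this
      exact mem_bot.mp (this ▸ (mem_St ρ).mpr hg))
    obtain ⟨⟨a, ha⟩, a1⟩ := ne_bot_iff_exists_ne_one.mp h1
    obtain ⟨t, t0, t1, t2⟩ := exists_prime_fix hG ha fun e => a1 (Subtype.ext e)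
    exact ⟨t, t1, t2, t0⟩

end CfsgLib.HalfT
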