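import Cfsg.Agent.Lib.Frob.Action
import Cfsg.Agent.Lib.Frob.Quaternion
import Cfsg.Agent.Lib.PCount.Basic
import Cfsg.Agent.Lib.PGroup.RankTwo
import Cfsg.Agent.S3370

/-! Half-transitive linear `p`-groups. -/

set_option autoImplicit false
set_option linter.unusedSectionVars false

namespace CfsgLib.HalfT

open Subgroup Module
open scoped commutatorElement

variable {q : ℕ} [hq : Fact q.Prime] {V : Type*} [AddCommGroup V] [Module (ZMod q) V] [Finite V]
  {G : Type*} [Group G] [Finite G] (ρ : G →* (V ≃ₗ[ZMod q] V))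

theorem rmul (a b : G) (v : V) : ρ (a * b) v = ρ a (ρ b v) := by rw [map_mul]; rfl

theorem rone (v : V) : ρ 1 v = v := by rw [map_one]; rfl

theorem rinv (a : G) (v : V) : ρ a⁻¹ (ρ a v) = v := by rw [← rmul, inv_mul_cancel, rone]

theorem rinv' (a : G) (v : V) : ρ a (ρ a⁻¹ v) = v := by rw [← rmul, mul_inv_cancel, rone]

def St (v : V) : Subgroup G where
  carrier := {g | ρ g v = v}
  one_mem' := rone ρ v
  mul_mem' := fun {a b} ha hb => by
    change ρ (a * b) v = v
    rw [rmul, show ρ b v = v from hb, show ρ a v = v from ha]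
  inv_mem' := fun {a} ha => by
    change ρ a⁻¹ v = v
    conv_lhs => rw [← show ρ a v = v from ha]
    exact rinv ρ a v

theorem mem_St {v : V} {g : G} : g ∈ St ρ v ↔ ρ g v = v := Iff.rfl

def Fx (g : G) : Submodule (ZMod q) V := LinearMap.ker ((ρ g : V →ₗ[ZMod q] V) - 1)

theorem mem_Fx {v : V} {g : G} : v ∈ Fx ρ g ↔ ρ g v = v := sub_eq_zero

theorem Fx_conj {v : V} {a : G} (hv : v ∈ Fx ρ a) (g : G) : ρ g v ∈ Fx ρ (g * a * g⁻¹) := by
  rw [mem_Fx] at hv ⊢
  rw [rmul, rmul, rinv, hv]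

/-- all stabilisers of non-zero vectors have the same order -/
def Half : Prop := ∀ v w : V, v ≠ 0 → w ≠ 0 → Nat.card (St ρ v) = Nat.card (St ρ w)

theorem index_St (v : V) : (St ρ v).index = Nat.card {u : V | ∃ g : G, ρ g v = u} := by
  let _ := MulAction.compHom V ρ
  exact (MulAction.index_stabilizer G v).trans rfl

theorem half_of (h : ∀ v w : V, v ≠ 0 → w ≠ 0 →
    Nat.card {u : V | ∃ g : G, ρ g v = u} = Nat.card {u : V | ∃ g : G, ρ g w = u}) : Half ρ := by
  intro v w hv hw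
  have h1 := (St ρ v).card_mul_index
  have h2 := (St ρ w).card_mul_index
  rw [index_St, h v w hv hw, ← index_St, ← h2] at h1
  exact Nat.eq_of_mul_eq_mul_right (Nat.pos_of_ne_zero index_ne_zero_of_finite) h1

variable {ρ}

theorem Half.eq (h : Half ρ) {x y : V} (hx : x ≠ 0) (hy : y ≠ 0) (hxy : x + y ≠ 0)
    (hle : St ρ (x + y) ≤ St ρ x ⊓ St ρ y) : St ρ x = St ρ y := by
  rw [← eq_of_le_of_card_ge (hle.trans inf_le_left) (h _ _ hx hxy).le,
    ← eq_of_le_of_card_ge (hle.trans inf_le_right) (h _ _ hy hxy).le]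

theorem Half.central (h : Half ρ) (hρ : Function.Injective ρ) {p : ℕ} (hpq : (p : ZMod q) ≠ 0)
    {z : G} (hz : z ∈ center G) (hz1 : z ≠ 1) (hzp : z ^ p = 1) {v : V} (hv : ρ z v = v) : v = 0 := by
  by_contra hv0
  let τ : G →* Module.End (ZMod q) V := LinearEquiv.automorphismGroup.toLinearMapMonoidHom.comp ρ
  have hdis : ∀ w u : V, ρ z w = w → w = ρ z u - u → w = 0 := by
    intro w u h1 h2
    have h3 : (∑ k ∈ Finset.range p, τ z ^ k) w = (p : ZMod q) • w := by
      simp only [LinearMap.sum_apply]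
      rw [Finset.sum_congr rfl fun k _ => (Module.End.pow_apply (τ z) k w).trans
        (Function.iterate_fixed h1 k)]
      simp [Nat.cast_smul_eq_nsmul]
    have h4 : ((∑ k ∈ Finset.range p, τ z ^ k) * (τ z - 1)) u = 0 := by
      rw [geom_sum_mul, ← map_pow, hzp, map_one, sub_self]; rfl
    have h5 : (τ z - 1) u = w := h2.symm
    rw [Module.End.mul_apply, h5, h3] at h4
    exact (smul_eq_zero.mp h4).resolve_left hpq
  obtain ⟨u, hu⟩ : ∃ u, ρ z u - u ≠ 0 := by
    by_contra h1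
    push Not at h1
    exact hz1 (hρ (by rw [map_one]; exact LinearEquiv.ext fun u => sub_eq_zero.mp (h1 u)))
  have hc : ∀ g w, ρ z (ρ g w) = ρ g (ρ z w) := fun g w => by
    rw [← rmul, ← rmul, mem_center_iff.mp hz]
  have h1 := h.eq hv0 hu (fun e => hv0 (hdis v (-u) hv (by
    rw [map_neg, eq_neg_of_add_eq_zero_left e]; abel))) (fun g hg => by
      rw [mem_St, map_add, map_sub] at hg
      have h2 : ρ g v - v = 0 := hdis _ (u - ρ g u) (by rw [map_sub, hc, hv]) (by
        rw [map_sub, hc]; linear_combination (norm := abel) hg)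
      refine ⟨sub_eq_zero.mp h2, ?_⟩
      change ρ g (ρ z u - u) = _
      rw [map_sub]
      linear_combination (norm := abel) hg - h2)
  have h2 : z ∈ St ρ (ρ z u - u) := h1 ▸ hv
  exact hu (hdis _ u h2 rfl)

theorem pq [Nontrivial V] (h : ∀ v : V, v ≠ 0 → ∀ g : G, ρ g v = v → g = 1) : Frob.PQCond G := by
  let φ : G →* MulAut (Multiplicative V) :=
    { toFun := fun g => AddEquiv.toMultiplicative (ρ g).toAddEquiv
      map_one' := by ext v; exact rone ρ _
      map_mul' := fun a b => by ext v; exact rmul ρ a b _ }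
  refine Frob.pqCond_of_action φ fun a ha v hv => ?_
  by_contra h0
  exact ha (h v.toAdd h0 a hv)

theorem pq_card {H : Type*} [Group H] [Finite H] (h : Frob.PQCond H) {p : ℕ} [hp : Fact p.Prime]
    (E : Subgroup H) (hE : ∀ x ∈ E, x ^ p = 1) : Nat.card E ≠ p ^ 2 := by
  intro hc
  have hcomm := IsPGroup.isMulCommutative_of_card_eq_prime_sq hc
  obtain ⟨x, hx, ox⟩ := Core.exists_mem_orderOf_eq_of_dvd_card hp.out
    (hc ▸ dvd_pow_self p two_ne_zero : p ∣ Nat.card E)
  have hle : E ≤ zpowers x := by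
    intro y hy
    by_cases y1 : y = 1
    · rw [y1]; exact one_mem _
    have oy := orderOf_eq_prime (hE y hy) y1
    refine (h x y (ox ▸ hp.out) (oy ▸ hp.out) ?_).2 (ox.trans oy.symm)
    rw [setLike_mul_comm hy hx, mul_inv_cancel_right]; exact mem_zpowers x
  have := card_le_of_le hle
  rw [Nat.card_zpowers, ox, hc] at this
  nlinarith [hp.out.one_lt]

theorem neg_of_central (h : Half ρ) (hρ : Function.Injective ρ) (h2 : (2 : ZMod q) ≠ 0) {z : G}
    (hz : z ∈ center G) (hz1 : z ≠ 1) (hzp : z ^ 2 = 1) (v : V) : ρ z v = -v := by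
  have := h.central hρ (p := 2) (by exact_mod_cast h2) hz hz1 hzp (v := ρ z v + v) (by
    rw [map_add, ← rmul, ← sq, hzp, rone, add_comm])
  exact eq_neg_of_add_eq_zero_left this

theorem eq_zero_of_eq_neg (h2 : (2 : ZMod q) ≠ 0) {v : V} (h : v = -v) : v = 0 := by
  have : (2 : ZMod q) • v = 0 := by rw [two_smul]; exact add_eq_zero_iff_eq_neg.mpr h
  exact (smul_eq_zero.mp this).resolve_left h2

theorem rank_half (h2 : (2 : ZMod q) ≠ 0) {z t w : G} (hz : ∀ v, ρ z v = -v) (ht : t ^ 2 = 1)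
    (hw : w * t * w⁻¹ = z * t) :
    2 * finrank (ZMod q) (Fx ρ t) = finrank (ZMod q) V ∧
      finrank (ZMod q) (Fx ρ (z * t)) = finrank (ZMod q) (Fx ρ t) := by
  have htt : ∀ v, ρ t (ρ t v) = v := fun v => by rw [← rmul, ← sq, ht, rone]
  have hc : IsCompl (Fx ρ t) (Fx ρ (z * t)) := by
    constructor
    · rw [Submodule.disjoint_def]
      intro v h1 h3
      rw [mem_Fx] at h1 h3
      rw [rmul, h1, hz] at h3
      exact eq_zero_of_eq_neg h2 h3.symm
    · rw [codisjoint_iff, eq_top_iff]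
      intro v _
      rw [← Submodule.smul_mem_iff _ h2]
      have : (2 : ZMod q) • v = (v + ρ t v) + (v - ρ t v) := by rw [two_smul]; abel
      rw [this]
      refine Submodule.add_mem_sup ?_ ?_
      · rw [mem_Fx, map_add, htt, add_comm]
      · rw [mem_Fx, rmul, hz, map_sub, htt, neg_sub]
  have h1 : (Fx ρ t).map (ρ w : V →ₗ[ZMod q] V) = Fx ρ (z * t) := by
    ext v
    rw [Submodule.mem_map_equiv, mem_Fx, mem_Fx, ← hw, rmul, rmul, map_inv, LinearEquiv.eq_symm_apply]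
    rfl
  have h3 := LinearEquiv.finrank_map_eq (ρ w) (Fx ρ t)
  rw [h1] at h3
  have h4 := Submodule.finrank_add_eq_of_isCompl hc
  omega

theorem ncard_sub_zero (W : Submodule (ZMod q) V) :
    {v : V | v ≠ 0 ∧ v ∈ W}.ncard = q ^ finrank (ZMod q) W - 1 := by
  have h1 : {v : V | v ≠ 0 ∧ v ∈ W} = (W : Set V) \ {0} := by ext v; simp [and_comm]
  have h2 : (W : Set V).ncard = q ^ finrank (ZMod q) W := by
    rw [← Nat.card_coe_set_eq, SetLike.coe_sort_coe, Module.natCard_eq_pow_finrank (K := ZMod q),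
      Nat.card_zmod]
  rw [h1, Set.ncard_diff_singleton_of_mem W.zero_mem, h2]

/-- the dihedral and semidihedral count -/
theorem count [Nontrivial V] (h2 : (2 : ZMod q) ≠ 0) {z w : G} (hz : ∀ v, ρ z v = -v) (I : Set G)
    (hI : ∀ t ∈ I, t ^ 2 = 1 ∧ w * t * w⁻¹ = z * t) (hex : ∀ v : V, v ≠ 0 → ∃! t, t ∈ I ∧ ρ t v = v)
    {m : ℕ} (hm : I.ncard = 2 ^ m) : Nat.card V = q ^ 2 ∧ q = 2 ^ m - 1 := by
  classical
  obtain ⟨v0, hv0⟩ := exists_ne (0 : V)
  obtain ⟨t0, ⟨ht0, -⟩, -⟩ := hex v0 hv0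
  obtain ⟨r, hr⟩ : ∃ r, 2 * r = finrank (ZMod q) V := ⟨_, (rank_half h2 hz (hI t0 ht0).1 (hI t0 ht0).2).1⟩
  have hr0 : r ≠ 0 := by
    have := Module.finrank_pos (R := ZMod q) (M := V)
    omega
  have hF : ∀ t ∈ I, finrank (ZMod q) (Fx ρ t) = r := fun t ht => by
    have := (rank_half h2 hz (hI t ht).1 (hI t ht).2).1
    omega
  let f : V → G := fun v => if h : v ≠ 0 then (hex v h).choose else 1
  have hf : ∀ v, v ≠ 0 → ∀ t, f v = t ↔ t ∈ I ∧ ρ t v = v := by
    intro v hv t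
    have e : f v = (hex v hv).choose := dif_pos hv
    rw [e]
    exact ⟨fun h => h ▸ (hex v hv).choose_spec.1, fun h => ((hex v hv).choose_spec.2 t h).symm⟩
  have h1 := PCount.ncard_eq_mul_of_fibers {v : V | v ≠ 0 ∧ v ∈ (⊤ : Submodule (ZMod q) V)} f
    (q ^ r - 1) (by
      intro a ha
      have h3 := (hf a ha.1 _).mp rfl
      rw [← hF _ h3.1, ← ncard_sub_zero]
      congr 1
      ext v
      simp only [Set.mem_ofPred_eq, Submodule.mem_top, and_true, mem_Fx]
      exact and_congr_right fun hv => by rw [hf v hv]; simp [h3.1])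
  have h3 : f '' {v : V | v ≠ 0 ∧ v ∈ (⊤ : Submodule (ZMod q) V)} = I := by
    ext t
    constructor
    · rintro ⟨v, hv, rfl⟩
      exact ((hf v hv.1 _).mp rfl).1
    · intro ht
      have : Nontrivial (Fx ρ t) := Module.nontrivial_of_finrank_pos (R := ZMod q) (by
        rw [hF t ht]; omega)
      obtain ⟨v, hv⟩ := exists_ne (0 : Fx ρ t)
      have hv' : (v : V) ≠ 0 := fun e => hv (Subtype.ext e)
      exact ⟨v, ⟨hv', trivial⟩, (hf _ hv' t).mpr ⟨ht, (mem_Fx ρ).mp v.2⟩⟩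
  rw [h3, ncard_sub_zero, finrank_top, ← hr, hm] at h1
  have h4 : 2 ≤ q ^ r := (hq.out.two_le).trans (Nat.le_self_pow hr0 q)
  have h5 : 2 ^ m - 1 = q ^ r := by
    obtain ⟨Q, hQ⟩ : ∃ Q, q ^ r = Q + 1 := ⟨q ^ r - 1, by omega⟩
    rw [mul_comm 2 r, pow_mul, hQ] at h1
    rw [hQ] at h4 ⊢
    have h6 : (Q + 1) ^ 2 - 1 = (Q + 2) * Q := by
      rw [Nat.sub_eq_iff_eq_add (Nat.one_le_pow _ _ (by omega))]; ring
    rw [h6, Nat.add_sub_cancel] at h1
    have := Nat.eq_of_mul_eq_mul_right (by omega) h1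
    omega
  have hq2 : q ≠ 2 := by rintro rfl; exact h2 rfl
  have h6 : r = 1 := by
    rcases Cfsg.Agent.S3370.arith Nat.prime_two hq.out hr0 h5 with h | h | h
    · exact h.2
    · exact absurd h.1 hq2
    · exact absurd h.1 hq2
  subst h6
  rw [Module.natCard_eq_pow_finrank (K := ZMod q), Nat.card_zmod, ← hr, h5]
  simp

end CfsgLib.HalfT
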