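import Cfsg.Agent.Lib.HalfT.A

/-! Half-transitive linear `p`-groups: the imprimitive case. -/

set_option autoImplicit false
set_option linter.unusedSectionVars false

namespace CfsgLib.HalfT

open Subgroup Module
open scoped commutatorElement

variable {q : ℕ} [hq : Fact q.Prime] {V : Type*} [AddCommGroup V] [Module (ZMod q) V] [Finite V]
  {G : Type*} [Group G] [Finite G] {ρ : G →* (V ≃ₗ[ZMod q] V)}

theorem sub_mem_Fx {a b : G} (hab : a * b = b * a) {v : V} (hv : v ∈ Fx ρ a) : ρ b v - v ∈ Fx ρ a := by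
  rw [mem_Fx] at hv ⊢
  rw [map_sub, ← rmul, hab, rmul, hv]

theorem odd_case (h : Half ρ) {p : ℕ} (hp : p.Prime) (hp2 : p ≠ 2) {u z : G} (hz : z ∈ center G)
    (oz : orderOf z = p) (hfz : ∀ k : ℕ, z ^ k ≠ 1 → ∀ v, ρ (z ^ k) v = v → v = 0)
    (hcj : ∀ g, ∃ c : ℕ, g * u * g⁻¹ = u * z ^ c) {g0 : G} (hg0 : g0 * u * g0⁻¹ = u * z)
    {x : V} (hx : x ≠ 0) (hux : ρ u x = x) : False := by
  have zc : ∀ (k : ℕ) g, g * z ^ k = z ^ k * g := fun k => mem_center_iff.1 (pow_mem hz k)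
  have hcm : ∀ i j : ℕ, u * z ^ i * (u * z ^ j) = u * z ^ j * (u * z ^ i) := fun i j => by
    rw [mul_assoc, mul_assoc, ← mul_assoc (z ^ i), ← mul_assoc (z ^ j), ← zc i u, ← zc j u, mul_assoc,
      mul_assoc, zc i (z ^ j)]
  have hdis : ∀ i j : ℕ, ¬ i ≡ j [MOD p] → ∀ v, v ∈ Fx ρ (u * z ^ i) → v ∈ Fx ρ (u * z ^ j) → v = 0 := by
    have key : ∀ i j : ℕ, i ≤ j → ¬ i ≡ j [MOD p] → ∀ v, v ∈ Fx ρ (u * z ^ i) →
        v ∈ Fx ρ (u * z ^ j) → v = 0 := by
      intro i j hij hn v h1 h2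
      obtain ⟨k, rfl⟩ := Nat.exists_eq_add_of_le hij
      refine hfz k (fun e => hn ?_) v ?_
      · rw [← oz, ← pow_eq_pow_iff_modEq, pow_add, e, mul_one]
      · rw [mem_Fx] at h1 h2
        rw [pow_add, ← mul_assoc, zc k, rmul, h1] at h2
        exact h2
    intro i j hn v h1 h2
    rcases le_total i j with e | e
    · exact key i j e hn v h1 h2
    · exact key j i e (fun e' => hn e'.symm) v h2 h1
  have hinj : ∀ i j : ℕ, ¬ i ≡ j [MOD p] → ∀ v, v ∈ Fx ρ (u * z ^ i) → ρ (u * z ^ j) v - v = 0 → v = 0 :=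
    fun i j hn v h1 h2 => hdis i j hn v h1 ((mem_Fx ρ).mpr (sub_eq_zero.mp h2))
  have h01 : ¬ 0 ≡ 1 [MOD p] := fun e => hp.one_lt.ne' (by simpa using (Nat.modEq_iff_dvd' zero_le_one).mp e)
  have hx0 : x ∈ Fx ρ (u * z ^ 0) := by rw [pow_zero, mul_one]; exact (mem_Fx ρ).mpr hux
  have hy1 : ρ g0 x ∈ Fx ρ (u * z ^ 1) := by
    rw [pow_one, ← hg0]; exact Fx_conj ρ ((mem_Fx ρ).mpr hux) g0
  set y := ρ g0 x with hy
  have hy0 : y ≠ 0 := (LinearEquiv.map_ne_zero_iff _).mpr hx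
  have h1 := h.eq hx hy0 (fun e => hx (hdis 0 1 h01 x hx0 (by
    rw [eq_neg_of_add_eq_zero_left e]; exact Submodule.neg_mem _ hy1))) (fun g hg => by
      obtain ⟨c, hc⟩ := hcj g
      have hcj' : ∀ i, g * (u * z ^ i) * g⁻¹ = u * z ^ (c + i) := fun i => by
        rw [← mul_assoc, mul_assoc _ (z ^ i), ← zc i g⁻¹, ← mul_assoc, hc, pow_add, mul_assoc]
      have a1 := Fx_conj ρ hx0 g
      have a2 := Fx_conj ρ hy1 g
      rw [hcj'] at a1 a2
      rw [mem_St, map_add] at hg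
      have hT : ∀ (i j : ℕ) (v : V), v ∈ Fx ρ (u * z ^ i) → ρ (u * z ^ j) v - v ∈ Fx ρ (u * z ^ i) :=
        fun i j v hv => sub_mem_Fx (hcm i j) hv
      let T : ℕ → V →ₗ[ZMod q] V := fun j => (ρ (u * z ^ j) : V →ₗ[ZMod q] V) - 1
      have hT0 : ∀ j v, v ∈ Fx ρ (u * z ^ j) → T j v = 0 := fun j v hv => hv
      have b1 : T 0 (T 1 (ρ g x)) + T 0 (T 1 (ρ g y)) = 0 := by
        rw [← map_add, ← map_add, hg, map_add, hT0 1 y hy1, add_zero]
        exact hT0 0 _ (hT 0 1 x hx0)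
      by_cases c0 : c ≡ 0 [MOD p]
      · have e0 : z ^ (c + 0) = z ^ 0 := pow_eq_pow_iff_modEq.mpr (oz ▸ c0.add_right 0)
        have e1 : z ^ (c + 1) = z ^ 1 := pow_eq_pow_iff_modEq.mpr (oz ▸ c0.add_right 1)
        rw [e0] at a1
        rw [e1] at a2
        have b2 : ρ g x - x = 0 := hdis 0 1 h01 _ (Submodule.sub_mem _ a1 hx0) (by
          have : ρ g x - x = y - ρ g y := by linear_combination (norm := abel) hg
          rw [this]; exact Submodule.sub_mem _ hy1 a2)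
        refine ⟨sub_eq_zero.mp b2, ?_⟩
        change ρ g y = y
        linear_combination (norm := abel) hg - b2
      exfalso
      by_cases c1 : c ≡ 1 [MOD p]
      · have e0 : z ^ (c + 0) = z ^ 1 := pow_eq_pow_iff_modEq.mpr (oz ▸ c1.add_right 0)
        rw [e0] at a1
        rw [hT0 1 _ a1, map_zero, zero_add] at b1
        have n0 : ¬ c + 1 ≡ 0 [MOD p] := fun e => by
          have := (Nat.modEq_zero_iff_dvd.mp ((c1.add_right 1).symm.trans e))
          exact hp2 ((Nat.prime_dvd_prime_iff_eq hp Nat.prime_two).mp this)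
        have n1 : ¬ c + 1 ≡ 1 [MOD p] := fun e => c0 (Nat.ModEq.add_right_cancel' 1 e)
        have := hinj _ _ n1 _ a2 (hinj _ _ n0 _ (hT _ 1 _ a2) b1)
        exact hy0 ((LinearEquiv.map_eq_zero_iff _).mp this)
      · have b2 := congrArg (T (c + 1)) b1
        have b3 : T (c + 1) (T 0 (T 1 (ρ g y))) = 0 := hT0 (c + 1) _ (hT _ 0 _ (hT _ 1 _ a2))
        rw [map_add, b3, add_zero, map_zero] at b2
        have n2 : ¬ c + 0 ≡ c + 1 [MOD p] := fun e => h01 (Nat.ModEq.add_left_cancel' c e)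
        have := hinj _ _ c1 _ a1 (hinj _ _ c0 _ (hT _ 1 _ a1)
          (hinj _ _ n2 _ (hT _ 0 _ (hT _ 1 _ a1)) b2))
        exact hx ((LinearEquiv.map_eq_zero_iff _).mp this))
  have h2 : u ∈ St ρ y := h1 ▸ hux
  exact hy0 (hdis 0 1 h01 y (by rw [pow_zero, mul_one]; exact (mem_Fx ρ).mpr h2) hy1)

/-- the data of a normal four-group -/
structure Four (ρ : G →* (V ≃ₗ[ZMod q] V)) (u z : G) : Prop where
  half : Half ρ
  inj : Function.Injective ρ
  two : (2 : ZMod q) ≠ 0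
  neg : ∀ v, ρ z v = -v
  cen : ∀ g, g * z = z * g
  sq : u ^ 2 = 1
  cj : ∀ g, g * u * g⁻¹ = u ∨ g * u * g⁻¹ = z * u
  nc : ∃ g, g * u * g⁻¹ = z * u

namespace Four
variable {u z : G} (h : Four ρ u z)
include h

theorem zz : z * z = 1 := h.inj (by
  rw [map_one]; exact LinearEquiv.ext fun v => by rw [rmul, h.neg, h.neg, neg_neg]; rfl)

theorem cjz (g a : G) : g * (z * a) * g⁻¹ = z * (g * a * g⁻¹) := by
  rw [← mul_assoc, h.cen g]; group

theorem swap : Four ρ (z * u) z where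
  half := h.half
  inj := h.inj
  two := h.two
  neg := h.neg
  cen := h.cen
  sq := by rw [(show Commute z u from (h.cen u).symm).mul_pow, h.sq, _root_.sq, h.zz, one_mul]
  cj := fun g => by rw [h.cjz]; rcases h.cj g with e | e <;> simp [e]
  nc := by obtain ⟨g, e⟩ := h.nc; exact ⟨g, by rw [h.cjz, e]⟩

theorem zzu : z * (z * u) = u := by rw [← mul_assoc, h.zz, one_mul]

theorem dis {v : V} (h1 : v ∈ Fx ρ u) (h2 : v ∈ Fx ρ (z * u)) : v = 0 := by
  rw [mem_Fx] at h1 h2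
  rw [rmul, h1, h.neg] at h2
  exact eq_zero_of_eq_neg h.two h2.symm

theorem u_neg {y : V} (hy : y ∈ Fx ρ (z * u)) : ρ u y = -y := by
  rw [mem_Fx, rmul, h.neg] at hy
  exact neg_eq_iff_eq_neg.mp hy

theorem in_H {g : G} (hg : g * u * g⁻¹ = u) {x y : V} (hx : x ∈ Fx ρ u) (hy : y ∈ Fx ρ (z * u))
    (e : ρ g (x + y) = x + y) : ρ g x = x ∧ ρ g y = y := by
  have a1 := Fx_conj ρ hx g
  have a2 := Fx_conj ρ hy g
  rw [h.cjz] at a2
  rw [hg] at a1 a2
  rw [map_add] at e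
  have b2 : ρ g x - x = 0 := h.dis (Submodule.sub_mem _ a1 hx) (by
    have : ρ g x - x = y - ρ g y := by linear_combination (norm := abel) e
    rw [this]; exact Submodule.sub_mem _ hy a2)
  exact ⟨sub_eq_zero.mp b2, by linear_combination (norm := abel) e - b2⟩

theorem add_ne {x y : V} (hx : x ∈ Fx ρ u) (hy : y ∈ Fx ρ (z * u)) (hx0 : x ≠ 0) : x + y ≠ 0 :=
  fun e => hx0 (h.dis hx (by rw [eq_neg_of_add_eq_zero_left e]; exact Submodule.neg_mem _ hy))

theorem sw {x y : V} (hx : x ∈ Fx ρ u) (hy : y ∈ Fx ρ (z * u)) (hx0 : x ≠ 0) (hy0 : y ≠ 0) :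
    ∃ g, ρ g x = y ∧ ρ g y = x := by
  by_cases hH : ∀ g ∈ St ρ (x + y), g * u * g⁻¹ = u
  · have h1 := h.half.eq hx0 hy0 (h.add_ne hx hy hx0) fun g hg => h.in_H (hH g hg) hx hy hg
    have h2 : u ∈ St ρ y := h1 ▸ (mem_Fx ρ).mp hx
    exact absurd (h.dis ((mem_Fx ρ).mpr h2) hy) hy0
  · push Not at hH
    obtain ⟨g, hg, hn⟩ := hH
    have h1 := (h.cj g).resolve_left hn
    have a1 := Fx_conj ρ hx g
    have a2 := Fx_conj ρ hy g
    rw [h.cjz] at a2
    rw [h1] at a1 a2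
    rw [h.zzu] at a2
    rw [mem_St, map_add] at hg
    have b2 : ρ g y - x = 0 := h.dis (Submodule.sub_mem _ a2 hx) (by
      have : ρ g y - x = y - ρ g x := by linear_combination (norm := abel) hg
      rw [this]; exact Submodule.sub_mem _ hy a1)
    exact ⟨g, by linear_combination (norm := abel) hg - b2, sub_eq_zero.mp b2⟩

theorem pm {x y : V} (hx : x ∈ Fx ρ u) (hy : y ∈ Fx ρ (z * u)) (hx0 : x ≠ 0) {g : G}
    (hg : ρ g x = x) : ρ g y = y ∨ ρ g y = -y := by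
  by_cases hy0 : y = 0
  · left; rw [hy0, map_zero]
  let H : Subgroup G := centralizer {u}
  have hH : ∀ a, a ∈ H ↔ a * u * a⁻¹ = u := fun a => by
    rw [mem_centralizer_singleton_iff, mul_inv_eq_iff_eq_mul]
  have hi : H.index ≤ 2 := by
    have h1 := PGroup.index_centralizer_le (M := zpowers z) (x := u) (fun a => by
      have e : ⁅u, a⁆ = u * (a * u * a⁻¹)⁻¹ := by group
      rw [e]
      rcases h.cj a with e | e <;> rw [e]
      · simp
      · simp)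
    rw [Nat.card_zpowers] at h1
    exact h1.trans (orderOf_le_of_pow_eq_one two_pos (by rw [_root_.sq, h.zz]))
  have h1 := card_mul_index (H.subgroupOf (St ρ (x + y)))
  have h2 := card_mul_index ((St ρ y).subgroupOf (St ρ x))
  have h3 : Nat.card (H.subgroupOf (St ρ (x + y))) ≤ Nat.card ((St ρ y).subgroupOf (St ρ x)) :=
    Nat.card_le_card_of_injective (fun a => ⟨⟨a.1.1, (h.in_H ((hH _).mp a.2) hx hy a.1.2).1⟩,
      (h.in_H ((hH _).mp a.2) hx hy a.1.2).2⟩) (fun a b e =>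
        Subtype.ext (Subtype.ext (congrArg (fun c : (St ρ y).subgroupOf (St ρ x) => c.1.1) e)))
  have h4 : (H.subgroupOf (St ρ (x + y))).index ≤ 2 :=
    (relIndex_le_of_le_right le_top (by rw [relIndex_top_right]; exact index_ne_zero_of_finite)).trans
      (by rw [relIndex_top_right]; exact hi)
  have h5 := h.half _ _ hx0 (h.add_ne hx hy hx0)
  have hu : u ∈ St ρ x := (mem_Fx ρ).mp hx
  have hun : (⟨u, hu⟩ : St ρ x) ∉ (St ρ y).subgroupOf (St ρ x) := fun e =>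
    hy0 (h.dis ((mem_Fx ρ).mpr e) hy)
  have h6 : ((St ρ y).subgroupOf (St ρ x)).index = 2 := by
    have h7 : ((St ρ y).subgroupOf (St ρ x)).index ≠ 1 := fun e => hun ((index_eq_one.mp e).ge trivial)
    have h8 : ((St ρ y).subgroupOf (St ρ x)).index ≠ 0 := index_ne_zero_of_finite
    have h9 : 0 < Nat.card ((St ρ y).subgroupOf (St ρ x)) := Nat.card_pos
    have : ((St ρ y).subgroupOf (St ρ x)).index ≤ 2 := by nlinarith
    omega
  by_cases e : ρ g y = y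
  · exact Or.inl e
  · right
    have h7 := (mul_mem_iff_of_index_two h6 (a := ⟨g, hg⟩) (b := ⟨u, hu⟩)).mpr (iff_of_false e hun)
    have h8 : ρ (g * u) y = y := h7
    rw [rmul, h.u_neg hy, map_neg] at h8
    exact neg_eq_iff_eq_neg.mp h8

theorem pm' {x : V} (hx : x ∈ Fx ρ u) (hx0 : x ≠ 0) {g : G} (hg : ρ g x = x) :
    (∀ y ∈ Fx ρ (z * u), ρ g y = y) ∨ ∀ y ∈ Fx ρ (z * u), ρ g y = -y := by
  by_contra hn
  push Not at hn
  obtain ⟨⟨y, hy, h1⟩, y', hy', h2⟩ := hn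
  have h3 := (h.pm hx hy hx0 hg).resolve_left h1
  have h4 := (h.pm hx hy' hx0 hg).resolve_right h2
  rcases h.pm hx (Submodule.add_mem _ hy hy') hx0 hg with e | e <;> rw [map_add, h3, h4] at e
  · exact h1 (by rw [h3]; exact add_right_cancel e)
  · exact h2 (by rw [h4]; linear_combination (norm := abel) e)

theorem main [Nontrivial V] (hG : IsPGroup 2 G) :
    (Nat.card V = q ^ 2 ∧ (∃ m : ℕ, q = 2 ^ m + 1) ∧
      ∃ e : V ≃ₗ[ZMod q] (Fin 2 → ZMod q), ∀ f : (Fin 2 → ZMod q) ≃ₗ[ZMod q] (Fin 2 → ZMod q),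
        (∃ g : G, f = e.symm.trans ((ρ g).trans e)) ↔
        ∃ a s : ZMod q, a ≠ 0 ∧ (s = 1 ∨ s = -1) ∧
          ((∀ v, f v = ![a * v 0, s * a⁻¹ * v 1]) ∨ (∀ v, f v = ![s * a⁻¹ * v 1, a * v 0]))) ∨
    (Nat.card V = 81 ∧ q = 3) := by
  obtain ⟨w, hw⟩ := h.nc
  obtain ⟨h1, h2⟩ := rank_half h.two h.neg h.sq hw
  set r := finrank (ZMod q) (Fx ρ u) with hr
  have hr0 : r ≠ 0 := by
    have := Module.finrank_pos (R := ZMod q) (M := V)
    omega
  have hex : ∀ W : Submodule (ZMod q) V, finrank (ZMod q) W = r → ∃ v ∈ W, v ≠ 0 := by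
    intro W hW
    have : Nontrivial W := Module.nontrivial_of_finrank_pos (R := ZMod q) (by omega)
    obtain ⟨v, hv⟩ := exists_ne (0 : W)
    exact ⟨v, v.2, fun e => hv (Subtype.ext e)⟩
  obtain ⟨x, hx, hx0⟩ := hex _ rfl
  obtain ⟨y, hy, hy0⟩ := hex _ h2
  obtain ⟨g1, g1x, g1y⟩ := h.sw hx hy hx0 hy0
  obtain ⟨m, hm⟩ : ∃ m, q ^ r - 1 = 2 ^ m := by
    let H : Subgroup G := centralizer {u}
    let _ := MulAction.compHom V (ρ.comp H.subtype)
    obtain ⟨m, hm⟩ := (hG.to_subgroup H).card_orbit x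
    refine ⟨m, ?_⟩
    rw [← hm, ← ncard_sub_zero, Nat.card_coe_set_eq]
    congr 1
    ext v
    constructor
    · rintro ⟨hv0, hv⟩
      obtain ⟨g2, -, g2y⟩ := h.sw hv hy hv0 hy0
      have e : ρ (g2 * g1) x = v := by rw [rmul, g1x, g2y]
      refine ⟨⟨g2 * g1, ?_⟩, e⟩
      rw [mem_centralizer_singleton_iff, ← mul_inv_eq_iff_eq_mul]
      refine (h.cj _).resolve_right fun e' => hv0 (h.dis hv ?_)
      rw [← e', ← e]; exact Fx_conj ρ hx _
    · rintro ⟨g, rfl⟩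
      refine ⟨(LinearEquiv.map_ne_zero_iff (ρ g)).mpr hx0, ?_⟩
      have e := Fx_conj ρ hx g
      rwa [mem_centralizer_singleton_iff.mp g.2, mul_inv_cancel_right] at e
  have hq2 : q ≠ 2 := by rintro rfl; exact h.two rfl
  have hq3 : 3 ≤ q := by have := hq.out.two_le; omega
  have hm0 : m ≠ 0 := by
    rintro rfl
    have := Nat.le_self_pow hr0 q
    omega
  have hcard : Nat.card V = q ^ (2 * r) := by
    rw [Module.natCard_eq_pow_finrank (K := ZMod q), Nat.card_zmod, h1]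
  rcases Cfsg.Agent.S3370.arith hq.out Nat.prime_two hm0 hm with e | ⟨-, e⟩ | ⟨-, e, e'⟩
  · exact absurd e.1 hq2
  swap
  · right; rw [hcard, e', e]; exact ⟨rfl, rfl⟩
  left
  rw [e] at hm hcard h1 h2
  refine ⟨hcard, ⟨m, by rw [pow_one] at hm; omega⟩, ?_⟩
  have hli : LinearIndependent (ZMod q) ![x, y] := by
    rw [LinearIndependent.pair_iff]
    intro s t e
    have e1 : s • x = 0 := h.dis (Submodule.smul_mem _ _ hx) (by
      rw [eq_neg_of_add_eq_zero_left e]; exact Submodule.neg_mem _ (Submodule.smul_mem _ _ hy))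
    rw [e1, zero_add] at e
    exact ⟨(smul_eq_zero.mp e1).resolve_right hx0, (smul_eq_zero.mp e).resolve_right hy0⟩
  let b := basisOfLinearIndependentOfCardEqFinrank hli (by simp [← h1])
  have b0 : b 0 = x := by simp [b]
  have b1 : b 1 = y := by simp [b]
  have hsymm : ∀ v : Fin 2 → ZMod q, b.equivFun.symm v = v 0 • x + v 1 • y := fun v => by
    rw [Module.Basis.equivFun_symm_apply, Fin.sum_univ_two, b0, b1]
  have toF : ∀ (g : G) (α β γ δ : ZMod q), ρ g x = α • x + β • y → ρ g y = γ • x + δ • y →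
      ∀ v, (b.equivFun.symm.trans ((ρ g).trans b.equivFun)) v =
        ![α * v 0 + γ * v 1, β * v 0 + δ * v 1] := by
    intro g α β γ δ e1 e2 v
    rw [LinearEquiv.trans_apply, LinearEquiv.trans_apply, ← LinearEquiv.eq_symm_apply, hsymm, hsymm,
      map_add, map_smul, map_smul, e1, e2]
    simp only [Matrix.cons_val_zero, Matrix.cons_val_one]
    module
  have hsp : ∀ {W : Submodule (ZMod q) V} {a v : V}, finrank (ZMod q) W = 1 → a ∈ W → a ≠ 0 → v ∈ W →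
      ∃ c : ZMod q, c • a = v := by
    intro W a v hW ha ha0 hv
    obtain ⟨c, hc⟩ := (finrank_eq_one_iff_of_nonzero' (⟨a, ha⟩ : W)
      (fun e => ha0 (congrArg Subtype.val e))).mp hW ⟨v, hv⟩
    exact ⟨c, congrArg Subtype.val hc⟩
  have hga : ∀ a : ZMod q, a ≠ 0 → ∃ g, ρ g x = a • y ∧ ρ g y = a⁻¹ • x := by
    intro a ha
    obtain ⟨g, e1, e2⟩ := h.sw hx (Submodule.smul_mem _ a hy) hx0 (smul_ne_zero ha hy0)
    refine ⟨g, e1, ?_⟩
    rw [map_smul] at e2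
    rw [← e2, smul_smul, inv_mul_cancel₀ ha, one_smul]
  have hgs : ∀ a s : ZMod q, a ≠ 0 → (s = 1 ∨ s = -1) →
      ∃ g, ρ g x = a • y ∧ ρ g y = (s * a⁻¹) • x := by
    intro a s ha hs
    obtain ⟨g, e1, e2⟩ := hga a ha
    rcases hs with rfl | rfl
    · exact ⟨g, e1, by rw [one_mul, e2]⟩
    · exact ⟨g * u, by rw [rmul, (mem_Fx ρ).mp hx, e1], by rw [rmul, h.u_neg hy, map_neg, e2]; simp⟩
  have hout : ∀ g, ρ g x ∈ Fx ρ (z * u) → ∃ a s : ZMod q, a ≠ 0 ∧ (s = 1 ∨ s = -1) ∧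
      ρ g x = a • y ∧ ρ g y = (s * a⁻¹) • x := by
    intro g hg
    obtain ⟨a, ha⟩ := hsp h2 hy hy0 hg
    have ha0 : a ≠ 0 := fun e => (LinearEquiv.map_ne_zero_iff (ρ g)).mpr hx0 (by rw [← ha, e, zero_smul])
    obtain ⟨g', e1, e2⟩ := hga a ha0
    have e3 : ρ (g'⁻¹ * g) x = x := by rw [rmul, ← ha, ← e1, rinv]
    rcases h.pm hx hy hx0 e3 with e4 | e4
    · refine ⟨a, 1, ha0, Or.inl rfl, ha.symm, ?_⟩
      have e5 := congrArg (ρ g') e4
      rw [rmul, rinv', e2] at e5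
      rw [e5, one_mul]
    · refine ⟨a, -1, ha0, Or.inr rfl, ha.symm, ?_⟩
      have e5 := congrArg (ρ g') e4
      rw [rmul, rinv', map_neg, e2] at e5
      rw [e5]; simp
  refine ⟨b.equivFun, fun f => ⟨?_, ?_⟩⟩
  · rintro ⟨g, rfl⟩
    rcases h.cj g with e | e
    · have e1 := Fx_conj ρ hx g
      rw [e] at e1
      have e2 : ρ (g1 * g) x ∈ Fx ρ (z * u) := by
        obtain ⟨c, hc⟩ := hsp (e ▸ hr.symm.trans ‹r = 1›) hx hx0 e1
        rw [rmul, ← hc, map_smul, g1x]; exact Submodule.smul_mem _ _ hy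
      obtain ⟨a, s, ha, hs, e3, e4⟩ := hout _ e2
      have e3' : ρ g x = a • x := (ρ g1).injective (by rw [← rmul, e3, map_smul, g1x])
      have e4' : ρ g y = (s * a⁻¹) • y := (ρ g1).injective (by rw [← rmul, e4, map_smul, g1y])
      refine ⟨a, s, ha, hs, Or.inl fun v => ?_⟩
      rw [toF g a 0 0 (s * a⁻¹) (by rw [e3']; simp) (by rw [e4']; simp)]
      simp
    · have e1 := Fx_conj ρ hx g
      rw [e] at e1
      obtain ⟨a, s, ha, hs, e3, e4⟩ := hout _ e1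
      refine ⟨a, s, ha, hs, Or.inr fun v => ?_⟩
      rw [toF g 0 a (s * a⁻¹) 0 (by rw [e3]; simp) (by rw [e4]; simp)]
      simp
  · rintro ⟨a, s, ha, hs, hf | hf⟩
    · obtain ⟨g, e1, e2⟩ := hgs a s ha hs
      refine ⟨g1 * g, LinearEquiv.ext fun v => ?_⟩
      rw [hf, toF (g1 * g) a 0 0 (s * a⁻¹) (by rw [rmul, e1, map_smul, g1y]; simp)
        (by rw [rmul, e2, map_smul, g1x]; simp)]
      simp
    · obtain ⟨g, e1, e2⟩ := hgs a s ha hs
      refine ⟨g, LinearEquiv.ext fun v => ?_⟩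
      rw [hf, toF g 0 a (s * a⁻¹) 0 (by rw [e1]; simp) (by rw [e2]; simp)]
      simp

end Four

end CfsgLib.HalfT
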